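/-
Certificate data of a coset enumeration.
-/
import Cfsg.Agent.Lib.CosetEnum.J6156.Data

set_option autoImplicit false
set_option maxRecDepth 1000000

namespace CfsgLib.CosetEnum.J6156

open CfsgLib.CosetEnum

theorem points8_ok : okPoints table 4 rels 4000 500 = true := by decide +kernel

theorem points9_ok : okPoints table 4 rels 4500 500 = true := by decide +kernel

theorem points10_ok : okPoints table 4 rels 5000 500 = true := by decide +kernel

theorem points11_ok : okPoints table 4 rels 5500 500 = true := by decide +kernel

theorem points12_ok : okPoints table 4 rels 6000 156 = true := by decide +kernel


end CfsgLib.CosetEnum.J6156
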