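/-
Certificate data of a coset enumeration.
-/
import Cfsg.Agent.Lib.CosetEnum.Cox
import Cfsg.Agent.Lib.CosetEnum.PresJ3
import Cfsg.Agent.Lib.CosetEnum.Orbit
import Cfsg.Agent.Lib.CosetEnum.J6156.OrbData
import Cfsg.Agent.Lib.CosetEnum.J6156.Facts0
import Cfsg.Agent.Lib.CosetEnum.J6156.Facts1
import Cfsg.Agent.Lib.CosetEnum.J6156.Facts2
import Cfsg.Agent.Lib.CosetEnum.J6156.Facts3
import Cfsg.Agent.Lib.CosetEnum.J6156.Facts4
import Cfsg.Agent.Lib.CosetEnum.J6156.Facts5
import Cfsg.Agent.Lib.CosetEnum.J6156.Facts6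
import Cfsg.Agent.Lib.CosetEnum.J6156.Facts7
import Cfsg.Agent.Lib.CosetEnum.J6156.Facts8
import Cfsg.Agent.Lib.CosetEnum.J6156.Facts9
import Cfsg.Agent.Lib.CosetEnum.J6156.Facts10
import Cfsg.Agent.Lib.CosetEnum.J6156.Facts11
import Cfsg.Agent.Lib.CosetEnum.J6156.Facts12
import Cfsg.Agent.Lib.CosetEnum.J6156.Facts13
import Cfsg.Agent.Lib.CosetEnum.J6156.Facts14
import Cfsg.Agent.Lib.CosetEnum.J6156.Facts15
import Cfsg.Agent.Lib.CosetEnum.J6156.Facts16
import Cfsg.Agent.Lib.CosetEnum.J6156.Facts17
import Cfsg.Agent.Lib.CosetEnum.J6156.Facts18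
import Cfsg.Agent.Lib.CosetEnum.J6156.Facts19
import Cfsg.Agent.Lib.CosetEnum.J6156.Facts20
import Cfsg.Agent.Lib.CosetEnum.J6156.Facts21
import Cfsg.Agent.Lib.CosetEnum.J6156.Facts22
import Cfsg.Agent.Lib.CosetEnum.J6156.Facts23
import Cfsg.Agent.Lib.CosetEnum.J6156.Rows0
import Cfsg.Agent.Lib.CosetEnum.J6156.Rows1
import Cfsg.Agent.Lib.CosetEnum.J6156.Rows2
import Cfsg.Agent.Lib.CosetEnum.J6156.Rows3
import Cfsg.Agent.Lib.CosetEnum.J6156.Rows4
import Cfsg.Agent.Lib.CosetEnum.J6156.Rows5
import Cfsg.Agent.Lib.CosetEnum.J6156.Rows6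
import Cfsg.Agent.Lib.CosetEnum.J6156.Points0
import Cfsg.Agent.Lib.CosetEnum.J6156.Points1

set_option autoImplicit false
set_option maxRecDepth 1000000

namespace CfsgLib.CosetEnum.J6156

open CfsgLib.CosetEnum

theorem rels_eq : presJ3.rels = rels := by decide +kernel

theorem holds {Ω : Type} (base : Ω) (s : ℕ → Ω → Ω) (hinv : ∀ x v, s x (s x v) = v) (hk : ∀ v, s data.k v = v)
    (hwh : ∀ w < data.nh, run s (wordOf (data.words.get w)) base = base)
    (hwr : ∀ w, data.nh ≤ w → w < data.nw → ∀ v, run s (wordOf (data.words.get w)) v = v) :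
    ∀ i < 92281, data.Holds base s i := by
  have h0 : ∀ i < 0, data.Holds base s i := fun i hi => absurd hi (Nat.not_lt_zero i)
  have h1 : ∀ i < 4000, data.Holds base s i := fun i hi =>
    Data.okChunk_sound hinv hk hwh hwr just0 0 just0_ok h0 i (by rw [just0_len]; exact hi)
  have h2 : ∀ i < 8000, data.Holds base s i := fun i hi =>
    Data.okChunk_sound hinv hk hwh hwr just1 4000 just1_ok h1 i (by rw [just1_len]; exact hi)
  have h3 : ∀ i < 12000, data.Holds base s i := fun i hi =>
    Data.okChunk_sound hinv hk hwh hwr just2 8000 just2_ok h2 i (by rw [just2_len]; exact hi)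
  have h4 : ∀ i < 16000, data.Holds base s i := fun i hi =>
    Data.okChunk_sound hinv hk hwh hwr just3 12000 just3_ok h3 i (by rw [just3_len]; exact hi)
  have h5 : ∀ i < 20000, data.Holds base s i := fun i hi =>
    Data.okChunk_sound hinv hk hwh hwr just4 16000 just4_ok h4 i (by rw [just4_len]; exact hi)
  have h6 : ∀ i < 24000, data.Holds base s i := fun i hi =>
    Data.okChunk_sound hinv hk hwh hwr just5 20000 just5_ok h5 i (by rw [just5_len]; exact hi)
  have h7 : ∀ i < 28000, data.Holds base s i := fun i hi =>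
    Data.okChunk_sound hinv hk hwh hwr just6 24000 just6_ok h6 i (by rw [just6_len]; exact hi)
  have h8 : ∀ i < 32000, data.Holds base s i := fun i hi =>
    Data.okChunk_sound hinv hk hwh hwr just7 28000 just7_ok h7 i (by rw [just7_len]; exact hi)
  have h9 : ∀ i < 36000, data.Holds base s i := fun i hi =>
    Data.okChunk_sound hinv hk hwh hwr just8 32000 just8_ok h8 i (by rw [just8_len]; exact hi)
  have h10 : ∀ i < 40000, data.Holds base s i := fun i hi =>
    Data.okChunk_sound hinv hk hwh hwr just9 36000 just9_ok h9 i (by rw [just9_len]; exact hi)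
  have h11 : ∀ i < 44000, data.Holds base s i := fun i hi =>
    Data.okChunk_sound hinv hk hwh hwr just10 40000 just10_ok h10 i (by rw [just10_len]; exact hi)
  have h12 : ∀ i < 48000, data.Holds base s i := fun i hi =>
    Data.okChunk_sound hinv hk hwh hwr just11 44000 just11_ok h11 i (by rw [just11_len]; exact hi)
  have h13 : ∀ i < 52000, data.Holds base s i := fun i hi =>
    Data.okChunk_sound hinv hk hwh hwr just12 48000 just12_ok h12 i (by rw [just12_len]; exact hi)
  have h14 : ∀ i < 56000, data.Holds base s i := fun i hi =>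
    Data.okChunk_sound hinv hk hwh hwr just13 52000 just13_ok h13 i (by rw [just13_len]; exact hi)
  have h15 : ∀ i < 60000, data.Holds base s i := fun i hi =>
    Data.okChunk_sound hinv hk hwh hwr just14 56000 just14_ok h14 i (by rw [just14_len]; exact hi)
  have h16 : ∀ i < 64000, data.Holds base s i := fun i hi =>
    Data.okChunk_sound hinv hk hwh hwr just15 60000 just15_ok h15 i (by rw [just15_len]; exact hi)
  have h17 : ∀ i < 68000, data.Holds base s i := fun i hi =>
    Data.okChunk_sound hinv hk hwh hwr just16 64000 just16_ok h16 i (by rw [just16_len]; exact hi)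
  have h18 : ∀ i < 72000, data.Holds base s i := fun i hi =>
    Data.okChunk_sound hinv hk hwh hwr just17 68000 just17_ok h17 i (by rw [just17_len]; exact hi)
  have h19 : ∀ i < 76000, data.Holds base s i := fun i hi =>
    Data.okChunk_sound hinv hk hwh hwr just18 72000 just18_ok h18 i (by rw [just18_len]; exact hi)
  have h20 : ∀ i < 80000, data.Holds base s i := fun i hi =>
    Data.okChunk_sound hinv hk hwh hwr just19 76000 just19_ok h19 i (by rw [just19_len]; exact hi)
  have h21 : ∀ i < 84000, data.Holds base s i := fun i hi =>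
    Data.okChunk_sound hinv hk hwh hwr just20 80000 just20_ok h20 i (by rw [just20_len]; exact hi)
  have h22 : ∀ i < 88000, data.Holds base s i := fun i hi =>
    Data.okChunk_sound hinv hk hwh hwr just21 84000 just21_ok h21 i (by rw [just21_len]; exact hi)
  have h23 : ∀ i < 92000, data.Holds base s i := fun i hi =>
    Data.okChunk_sound hinv hk hwh hwr just22 88000 just22_ok h22 i (by rw [just22_len]; exact hi)
  have h24 : ∀ i < 92281, data.Holds base s i := fun i hi =>
    Data.okChunk_sound hinv hk hwh hwr just23 92000 just23_ok h23 i (by rw [just23_len]; exact hi)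
  exact h24

theorem rows {Ω : Type} (base : Ω) (s : ℕ → Ω → Ω) (hinv : ∀ x v, s x (s x v) = v) (hk : ∀ v, s data.k v = v)
    (hwh : ∀ w < data.nh, run s (wordOf (data.words.get w)) base = base)
    (hwr : ∀ w, data.nh ≤ w → w < data.nw → ∀ v, run s (wordOf (data.words.get w)) v = v) :
    ∀ d < 6156, RowOK data table base s d := by
  have hf := holds base s hinv hk hwh hwr
  have hk16 : data.k < 16 := show 4 < 16 by decide
  have h0 : ∀ d < 0, RowOK data table base s d := fun d hd => absurd hd (Nat.not_lt_zero d)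
  have h1 : ∀ d < 1000, RowOK data table base s d := fun d hd =>
    okRows_sound hinv hk hk16 hf rows0 0 rows0_ok h0 d (by rw [rows0_len]; exact hd)
  have h2 : ∀ d < 2000, RowOK data table base s d := fun d hd =>
    okRows_sound hinv hk hk16 hf rows1 1000 rows1_ok h1 d (by rw [rows1_len]; exact hd)
  have h3 : ∀ d < 3000, RowOK data table base s d := fun d hd =>
    okRows_sound hinv hk hk16 hf rows2 2000 rows2_ok h2 d (by rw [rows2_len]; exact hd)
  have h4 : ∀ d < 4000, RowOK data table base s d := fun d hd =>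
    okRows_sound hinv hk hk16 hf rows3 3000 rows3_ok h3 d (by rw [rows3_len]; exact hd)
  have h5 : ∀ d < 5000, RowOK data table base s d := fun d hd =>
    okRows_sound hinv hk hk16 hf rows4 4000 rows4_ok h4 d (by rw [rows4_len]; exact hd)
  have h6 : ∀ d < 6000, RowOK data table base s d := fun d hd =>
    okRows_sound hinv hk hk16 hf rows5 5000 rows5_ok h5 d (by rw [rows5_len]; exact hd)
  have h7 : ∀ d < 6156, RowOK data table base s d := fun d hd =>
    okRows_sound hinv hk hk16 hf rows6 6000 rows6_ok h6 d (by rw [rows6_len]; exact hd)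
  exact h7

theorem points : ∀ d < 6156, PointOK table 4 presJ3.rels d := by
  rw [rels_eq]
  have h0 : ∀ d < 0, PointOK table 4 rels d := fun d hd => absurd hd (Nat.not_lt_zero d)
  have h1 : ∀ d < 500, PointOK table 4 rels d := okPoints_sound points0_ok h0
  have h2 : ∀ d < 1000, PointOK table 4 rels d := okPoints_sound points1_ok h1
  have h3 : ∀ d < 1500, PointOK table 4 rels d := okPoints_sound points2_ok h2
  have h4 : ∀ d < 2000, PointOK table 4 rels d := okPoints_sound points3_ok h3
  have h5 : ∀ d < 2500, PointOK table 4 rels d := okPoints_sound points4_ok h4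
  have h6 : ∀ d < 3000, PointOK table 4 rels d := okPoints_sound points5_ok h5
  have h7 : ∀ d < 3500, PointOK table 4 rels d := okPoints_sound points6_ok h6
  have h8 : ∀ d < 4000, PointOK table 4 rels d := okPoints_sound points7_ok h7
  have h9 : ∀ d < 4500, PointOK table 4 rels d := okPoints_sound points8_ok h8
  have h10 : ∀ d < 5000, PointOK table 4 rels d := okPoints_sound points9_ok h9
  have h11 : ∀ d < 5500, PointOK table 4 rels d := okPoints_sound points10_ok h10
  have h12 : ∀ d < 6000, PointOK table 4 rels d := okPoints_sound points11_ok h11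
  have h13 : ∀ d < 6156, PointOK table 4 rels d := okPoints_sound points12_ok h12
  exact h13

theorem words_ok : okWords data presJ3.rels hw rots = true := by
  rw [rels_eq]; decide +kernel

/-- The certified enumeration. -/
noncomputable def cert : Cert presJ3 where
  D := data
  T := table
  hw := hw
  rots := rots
  nf := 92281
  hk := rfl
  hk16 := show 4 < 16 by decide
  nh_le := show 3 ≤ 139 by decide
  hn := show 0 < 6156 by decide
  hrep := by decide +kernel
  words_ok := words_ok
  facts_ok := rows
  points_ok := points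
  base_ok := by decide +kernel

theorem hlt : ∀ w ∈ presJ3.rels, ∀ x ∈ w, x < presJ3.k := by
  rw [rels_eq]; exact (show ∀ w ∈ rels, ∀ x ∈ w, x < 4 by decide +kernel)

theorem hhw : ∀ w ∈ hw, ∀ x ∈ w, x < 4 := by decide +kernel

theorem orbs : ∀ d < 6156, okOrb table 4 hwR orb roots d = true := by
  have h0 : ∀ d < 0, okOrb table 4 hwR orb roots d = true := fun d hd => absurd hd (Nat.not_lt_zero d)
  have h1 : ∀ d < 500, okOrb table 4 hwR orb roots d = true := okOrbs_sound orbs0_ok h0
  have h2 : ∀ d < 1000, okOrb table 4 hwR orb roots d = true := okOrbs_sound orbs1_ok h1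
  have h3 : ∀ d < 1500, okOrb table 4 hwR orb roots d = true := okOrbs_sound orbs2_ok h2
  have h4 : ∀ d < 2000, okOrb table 4 hwR orb roots d = true := okOrbs_sound orbs3_ok h3
  have h5 : ∀ d < 2500, okOrb table 4 hwR orb roots d = true := okOrbs_sound orbs4_ok h4
  have h6 : ∀ d < 3000, okOrb table 4 hwR orb roots d = true := okOrbs_sound orbs5_ok h5
  have h7 : ∀ d < 3500, okOrb table 4 hwR orb roots d = true := okOrbs_sound orbs6_ok h6
  have h8 : ∀ d < 4000, okOrb table 4 hwR orb roots d = true := okOrbs_sound orbs7_ok h7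
  have h9 : ∀ d < 4500, okOrb table 4 hwR orb roots d = true := okOrbs_sound orbs8_ok h8
  have h10 : ∀ d < 5000, okOrb table 4 hwR orb roots d = true := okOrbs_sound orbs9_ok h9
  have h11 : ∀ d < 5500, okOrb table 4 hwR orb roots d = true := okOrbs_sound orbs10_ok h10
  have h12 : ∀ d < 6000, okOrb table 4 hwR orb roots d = true := okOrbs_sound orbs11_ok h11
  have h13 : ∀ d < 6156, okOrb table 4 hwR orb roots d = true := okOrbs_sound orbs12_ok h12
  exact h13


end CfsgLib.CosetEnum.J6156
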